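import Cfsg.Agent.H175.BdSp_m3
import Cfsg.Agent.LieClassical.OmegaReindex
import Mathlib
import Cfsg.Agent.H341.ThreeList_m3
import Cfsg.Agent.H261.ExcThreeTw_m3
import Cfsg.Agent.FastGrp
import Cfsg.Agent.Prune
set_option linter.all false
prune_inst 0x7f00000000000000000000000000000000000000000000000000000000000000000000000000000000000000000000000000000000000000000000000000000000000000000000000000000000000000003fffffffffffffffffffffffffffbeffbdffffffff
open scoped Cfsg.Agent.FastGrp

-- part: H352/Frob313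
section
/-!
# Abelian 3-subgroups normalised by an element of order 13 (helper352)

`commute_pow_factorial` : `A` a finite abelian subgroup of `L` of order prime to the characteristic, `s` normalises `A`:
in a faithful representation of degree `n`, `s ^ n!` centralises `A`.

`Act N X` : `X` has an elementary abelian 3-subgroup `A` in which every pair of independent elements is swapped by an
element of `X`, and an element `s` normalising `A`, whose order on `A` is divisible by the prime `N`.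

`Act.le` : if `X ≅ M / Z(M)` and `M` has a faithful representation of degree `n` in characteristic `≠ 3`, then `N ≤ n`.
-/

set_option autoImplicit false

namespace Cfsg.Agent.H352.Frob313

open Module Cfsg.Agent.H912.Bd

section

variable {K : Type*} [Field K] [IsAlgClosed K] {V : Type*} [AddCommGroup V] [Module K V] [FiniteDimensional K V]
  {L : Type*} [Group L]

/-- An element normalising an abelian subgroup `A` permutes the weights of `A`. -/
theorem commute_pow_factorial (ρ : L →* Module.End K V) (hρ : Function.Injective ρ) {A : Subgroup L} [Finite A]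
    (hA : ∀ a ∈ A, ∀ b ∈ A, a * b = b * a) {N : ℕ} (hN : (N : K) ≠ 0) (hAN : ∀ a ∈ A, a ^ N = 1) {s : L}
    (hs : ∀ a ∈ A, s * a * s⁻¹ ∈ A) : ∀ a ∈ A, s ^ (finrank K V).factorial * a = a * s ^ (finrank K V).factorial := by
  classical
  let c : A → A := fun a => ⟨s * a * s⁻¹, hs a a.2⟩
  have hc : Function.Injective c := by
    intro a b hab
    have := congrArg Subtype.val hab
    exact Subtype.ext (by simpa only [c, _root_.SetLike.coe_eq_coe, _root_.mul_left_inj, _root_.mul_right_inj] using this)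
  have hcs : Function.Surjective c := Finite.surjective_of_injective hc
  have hci : ∀ (m : ℕ) (a : A), ((c^[m] a : A) : L) = s ^ m * a * (s ^ m)⁻¹ := by
    intro m
    induction m with
    | zero => intro a; simp
    | succ m ih =>
      intro a
      rw [Function.iterate_succ_apply, ih]
      show s ^ m * (s * a * s⁻¹) * (s ^ m)⁻¹ = _
      rw [pow_succ]; group
  have hind := indep_wt ρ hA hN hAN
  let W := {χ : A → K // wt ρ A χ ≠ ⊥}
  have hfin : Finite W := WellFoundedGT.finite_ne_bot_of_iSupIndep hind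
  have : Fintype W := Fintype.ofFinite W
  have hcard : Fintype.card W ≤ finrank K V := iSupIndep.subtype_ne_bot_le_finrank hind
  let σ : W → W := fun χ => ⟨fun a => χ.1 (c a), by
    intro h0
    have h1 := map_wt_le ρ (χ := χ.1) hs
    have h2 : wt ρ A (fun a => χ.1 ⟨s * a * s⁻¹, hs a a.2⟩) = ⊥ := h0
    rw [h2, le_bot_iff] at h1
    obtain ⟨v, hv, hv0⟩ := Submodule.exists_mem_ne_zero_of_ne_bot χ.2
    have h3 : ρ s⁻¹ v ∈ (wt ρ A χ.1).map (ρ s⁻¹) := ⟨v, hv, rfl⟩
    rw [h1, Submodule.mem_bot] at h3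
    exact hv0 (rho_injective ρ s⁻¹ (by rw [h3, map_zero]))⟩
  have hσ : Function.Injective σ := by
    intro χ χ' h
    apply Subtype.ext
    funext a
    obtain ⟨b, rfl⟩ := hcs a
    exact congrFun (congrArg Subtype.val h) b
  have hσi : ∀ (m : ℕ) (χ : W) (a : A), (σ^[m] χ).1 a = χ.1 (c^[m] a) := by
    intro m
    induction m with
    | zero => intro χ a; rfl
    | succ m ih =>
      intro χ a
      rw [Function.iterate_succ_apply, ih, Function.iterate_succ_apply']
  let τ : Equiv.Perm W := Equiv.ofBijective σ ⟨hσ, Finite.surjective_of_injective hσ⟩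
  have hτ : τ ^ (finrank K V).factorial = 1 := by
    have h1 : orderOf τ ∣ (finrank K V).factorial := by
      refine (orderOf_dvd_card).trans ?_
      rw [Fintype.card_perm]
      exact Nat.factorial_dvd_factorial hcard
    exact orderOf_dvd_iff_pow_eq_one.1 h1
  have hτi : ∀ χ : W, σ^[(finrank K V).factorial] χ = χ := by
    intro χ
    have h1 : (τ ^ (finrank K V).factorial) χ = χ := by rw [hτ]; rfl
    rw [Equiv.Perm.coe_pow] at h1
    exact h1
  intro a ha
  have key : ρ (s ^ (finrank K V).factorial * a * (s ^ (finrank K V).factorial)⁻¹) = ρ a := by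
    apply LinearMap.ext
    intro v
    have hv : v ∈ ⨆ χ, wt ρ A χ := by rw [iSup_wt ρ hA hN hAN]; trivial
    induction hv using Submodule.iSup_induction' with
    | zero => rw [map_zero, map_zero]
    | add x y _ _ hx hy => rw [map_add, map_add, hx, hy]
    | mem χ x hx =>
      by_cases h0 : wt ρ A χ = ⊥
      · rw [h0, Submodule.mem_bot] at hx
        rw [hx, map_zero, map_zero]
      · have h1 := mem_wt.1 hx (c^[(finrank K V).factorial] ⟨a, ha⟩)
        have h2 := mem_wt.1 hx ⟨a, ha⟩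
        rw [hci] at h1
        have h3 := congrFun (congrArg Subtype.val (hτi ⟨χ, h0⟩)) ⟨a, ha⟩
        rw [hσi] at h3
        rw [h1, h2]
        exact congrArg (· • x) h3
  have h4 := hρ key
  calc s ^ (finrank K V).factorial * a
      = s ^ (finrank K V).factorial * a * (s ^ (finrank K V).factorial)⁻¹ * s ^ (finrank K V).factorial := by group
    _ = a * s ^ (finrank K V).factorial := by rw [h4]

end

/-- matrix version -/
theorem commute_pow_factorial_matrix {F : Type*} [Field F] {ι : Type*} [Fintype ι] [DecidableEq ι] {L : Type*} [Group L]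
    (φ : L →* Matrix ι ι F) (hφ : Function.Injective φ) {A : Subgroup L} [Finite A]
    (hA : ∀ a ∈ A, ∀ b ∈ A, a * b = b * a) {N : ℕ} (hN : (N : F) ≠ 0) (hAN : ∀ a ∈ A, a ^ N = 1) {s : L}
    (hs : ∀ a ∈ A, s * a * s⁻¹ ∈ A) :
    ∀ a ∈ A, s ^ (Fintype.card ι).factorial * a = a * s ^ (Fintype.card ι).factorial := by
  let f : Matrix ι ι F →* Matrix ι ι (AlgebraicClosure F) := (algebraMap F (AlgebraicClosure F)).mapMatrix.toMonoidHom
  have hf : Function.Injective f := by
    intro a b hab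
    have h1 : a.map (algebraMap F (AlgebraicClosure F)) = b.map (algebraMap F (AlgebraicClosure F)) := hab
    exact Matrix.map_injective (algebraMap F (AlgebraicClosure F)).injective h1
  let g : Matrix ι ι (AlgebraicClosure F) →* Module.End (AlgebraicClosure F) (ι → AlgebraicClosure F) :=
    (Matrix.toLinAlgEquiv' (R := AlgebraicClosure F) (n := ι)).toAlgHom
  have hg : Function.Injective g := (Matrix.toLinAlgEquiv' (R := AlgebraicClosure F) (n := ι)).injective
  have h := commute_pow_factorial (K := AlgebraicClosure F) (V := ι → AlgebraicClosure F) ((g.comp f).comp φ)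
    (hg.comp (hf.comp hφ)) hA (N := N) (by
      rw [← map_natCast (algebraMap F (AlgebraicClosure F))]
      intro h0
      exact hN ((map_eq_zero_iff _ (algebraMap F (AlgebraicClosure F)).injective).1 h0)) hAN hs
  rwa [Module.finrank_fintype_fun_eq_card] at h

/-- `X` has an elementary abelian 3-subgroup `A`, all pairs of independent elements of which are swapped in `X`, and an
element normalising `A`, of order on `A` divisible by `N`. -/
def Act (N : ℕ) (X : Type*) [Group X] : Prop := ∃ (A : Subgroup X) (s : X), Finite A ∧ (∀ a ∈ A, a ^ 3 = 1) ∧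
  (∀ a ∈ A, ∀ b ∈ A, a * b = b * a) ∧
  (∀ a ∈ A, ∀ b ∈ A, b ∈ Subgroup.zpowers a ∨ a ∈ Subgroup.zpowers b ∨ ∃ g : X, g * a * g⁻¹ = b ∧ g * b * g⁻¹ = a) ∧
  (∀ a ∈ A, s * a * s⁻¹ ∈ A) ∧ ∀ m : ℕ, (∀ a ∈ A, s ^ m * a = a * s ^ m) → N ∣ m

theorem Act.congr {N : ℕ} {X Y : Type*} [Group X] [Group Y] (e : X ≃* Y) (h : Act N X) : Act N Y := by
  obtain ⟨A, s, h0, h1, h2, h3, h4, h5⟩ := h
  refine ⟨A.map e.toMonoidHom, e s, ?_, ?_, ?_, ?_, ?_, ?_⟩
  · exact Finite.of_equiv _ (A.equivMapOfInjective e.toMonoidHom e.injective).toEquiv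
  · rintro _ ⟨a, ha, rfl⟩
    rw [← map_pow, h1 a ha, map_one]
  · rintro _ ⟨a, ha, rfl⟩ _ ⟨b, hb, rfl⟩
    rw [← map_mul, h2 a ha b hb, map_mul]
  · rintro _ ⟨a, ha, rfl⟩ _ ⟨b, hb, rfl⟩
    rcases h3 a ha b hb with ⟨n, hn⟩ | ⟨n, hn⟩ | ⟨g, hg1, hg2⟩
    · left
      exact ⟨n, by simp only at hn ⊢; rw [← hn, map_zpow]⟩
    · right; left
      exact ⟨n, by simp only at hn ⊢; rw [← hn, map_zpow]⟩
    · right; right
      refine ⟨e g, ?_, ?_⟩
      · rw [← hg1]; simp only [_root_.MulEquiv.toMonoidHom_eq_coe, _root_.MonoidHom.coe_coe, _root_.map_mul, _root_.map_inv]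
      · show e g * e b * (e g)⁻¹ = e a
        rw [← map_inv, ← map_mul, ← map_mul, hg2]
  · rintro _ ⟨a, ha, rfl⟩
    refine ⟨s * a * s⁻¹, h4 a ha, ?_⟩
    simp only [_root_.MulEquiv.toMonoidHom_eq_coe, _root_.MonoidHom.coe_coe, _root_.map_mul, _root_.map_inv]
  · intro m hm
    apply h5
    intro a ha
    apply e.injective
    rw [map_mul, map_mul, map_pow]
    exact hm (e a) ⟨a, ha, rfl⟩

/-- **Projective representations.** -/
theorem Act.le {N : ℕ} (hN : N.Prime) {M : Type*} [Group M] [Finite M] (h : Act N (M ⧸ Subgroup.center M))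
    {F : Type*} [Field F] (h3 : (3 : F) ≠ 0) {ι : Type*} [Fintype ι] [DecidableEq ι]
    (φ : M →* Matrix ι ι F) (hφ : Function.Injective φ) : N ≤ Fintype.card ι := by
  obtain ⟨A, s, h0, hexp, hcomm, hsw, hs, hN'⟩ := h
  let π : M →* M ⧸ Subgroup.center M := QuotientGroup.mk' (Subgroup.center M)
  have hπs : Function.Surjective π := QuotientGroup.mk'_surjective _
  have hπc : ∀ m : M, π m = 1 → ∀ x, m * x = x * m := by
    intro m hm x
    have h1 : m ∈ Subgroup.center M := (QuotientGroup.eq_one_iff m).1 hm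
    exact (Subgroup.mem_center_iff.1 h1 x).symm
  -- lifts commute
  have hlift : ∀ a b : M, π a ∈ A → π b ∈ A → a * b = b * a := by
    intro a b ha hb
    have hc : ∀ x : M, (a * b * a⁻¹ * b⁻¹) * x = x * (a * b * a⁻¹ * b⁻¹) := by
      apply hπc
      rw [map_mul, map_mul, map_mul, map_inv, map_inv, hcomm _ ha _ hb]
      group
    set c := a * b * a⁻¹ * b⁻¹ with hcdef
    have hab : a * b = c * (b * a) := by rw [hcdef]; group
    -- `c ^ 3 = 1`
    have hc3 : c ^ 3 = 1 := by
      have h1 : ∀ x, a ^ 3 * x = x * a ^ 3 := hπc _ (by rw [map_pow, hexp _ ha])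
      have h2 : ∀ k : ℕ, a ^ k * b = c ^ k * (b * a ^ k) := by
        intro k
        induction k with
        | zero => simp
        | succ k ih =>
          have e1 : a ^ (k + 1) * b = a * (a ^ k * b) := by rw [pow_succ', mul_assoc]
          have hck : a * c ^ k = c ^ k * a := ((show Commute c a from hc a).pow_left k).eq.symm
          rw [e1, ih, ← mul_assoc, hck, mul_assoc, ← mul_assoc a b, hab, pow_succ, pow_succ']
          simp only [mul_assoc]
      have h4 := h2 3
      rw [h1] at h4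
      exact (mul_eq_right.1 h4.symm)
    rcases hsw _ ha _ hb with ⟨n, hn⟩ | ⟨n, hn⟩ | ⟨g, hg1, hg2⟩
    · -- `b = a ^ n z`
      have h1 : ∀ x, (b * (a ^ n)⁻¹) * x = x * (b * (a ^ n)⁻¹) := by
        apply hπc
        simp only at hn
        rw [map_mul, map_inv, map_zpow, hn, mul_inv_cancel]
      have h2 : b = (b * (a ^ n)⁻¹) * a ^ n := by group
      have h3 : Commute a (a ^ n) := (Commute.refl a).zpow_right n
      have h4 : Commute a (b * (a ^ n)⁻¹) := (h1 a).symm
      have h5 : Commute a b := by rw [h2]; exact h4.mul_right h3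
      exact h5
    · have h1 : ∀ x, (a * (b ^ n)⁻¹) * x = x * (a * (b ^ n)⁻¹) := by
        apply hπc
        simp only at hn
        rw [map_mul, map_inv, map_zpow, hn, mul_inv_cancel]
      have h2 : a = (a * (b ^ n)⁻¹) * b ^ n := by group
      have h3 : Commute b (b ^ n) := (Commute.refl b).zpow_right n
      have h4 : Commute b (a * (b ^ n)⁻¹) := (h1 b).symm
      have h5 : Commute b a := by rw [h2]; exact h4.mul_right h3
      exact h5.symm
    · obtain ⟨g, rfl⟩ := hπs g
      -- `g a g⁻¹ = z1 b`, `g b g⁻¹ = z2 a`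
      have hz1 : ∀ x, (g * a * g⁻¹ * b⁻¹) * x = x * (g * a * g⁻¹ * b⁻¹) := by
        apply hπc
        rw [map_mul, map_mul, map_mul, map_inv, map_inv, hg1, mul_inv_cancel]
      have hz2 : ∀ x, (g * b * g⁻¹ * a⁻¹) * x = x * (g * b * g⁻¹ * a⁻¹) := by
        apply hπc
        rw [map_mul, map_mul, map_mul, map_inv, map_inv, hg2, mul_inv_cancel]
      set z1 := g * a * g⁻¹ * b⁻¹ with hz1d
      set z2 := g * b * g⁻¹ * a⁻¹ with hz2d
      have e1 : g * a * g⁻¹ = z1 * b := by rw [hz1d]; group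
      have e2 : g * b * g⁻¹ = z2 * a := by rw [hz2d]; group
      have e3 : g * (a * b) * g⁻¹ = g * (c * (b * a)) * g⁻¹ := by rw [hab]
      have e4 : g * (a * b) * g⁻¹ = (g * a * g⁻¹) * (g * b * g⁻¹) := by group
      have e5 : g * (c * (b * a)) * g⁻¹ = (g * c) * g⁻¹ * (g * b * g⁻¹) * (g * a * g⁻¹) := by group
      rw [e4, e5, ← hc g, e1, e2] at e3
      -- `z1 b z2 a = c z2 a z1 b`
      have e6 : z1 * b * (z2 * a) = z1 * z2 * (b * a) := by
        rw [mul_assoc z1 b, ← mul_assoc b z2, ← hz2 b]; simp only [mul_assoc]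
      have e7 : c * g * g⁻¹ * (z2 * a) * (z1 * b) = z1 * z2 * (c * (a * b)) := by
        rw [mul_inv_cancel_right, mul_assoc c, mul_assoc z2 a, ← mul_assoc a z1, ← hz1 a, mul_assoc z1 a,
          ← mul_assoc z2 z1, ← hz1 z2, ← mul_assoc c, hc (z1 * z2), mul_assoc]
      rw [e6, e7] at e3
      have e8 : b * a = c * (a * b) := mul_left_cancel e3
      rw [hab] at e8
      have e9 : c * c = 1 := by
        have : (c * c) * (b * a) = b * a := by rw [mul_assoc]; exact e8.symm
        exact mul_eq_right.1 this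
      have e10 : c = 1 := by
        have : c ^ 3 = c * c * c := by rw [pow_succ, pow_two]
        rw [this, e9, one_mul] at hc3
        exact hc3
      rw [hab, e10, one_mul]
  -- the 3-part of the preimage of `A`
  obtain ⟨k, m, hm3, hcard⟩ := Nat.exists_eq_pow_mul_and_not_dvd (Nat.card_pos (α := M)).ne' 3 (by norm_num)
  let B : Subgroup M :=
    { carrier := {x | π x ∈ A ∧ x ^ 3 ^ k = 1}
      one_mem' := ⟨by rw [map_one]; exact A.one_mem, one_pow _⟩
      mul_mem' := by
        rintro x y ⟨hx, hx'⟩ ⟨hy, hy'⟩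
        refine ⟨by rw [map_mul]; exact A.mul_mem hx hy, ?_⟩
        rw [(show Commute x y from hlift x y hx hy).mul_pow, hx', hy', one_mul]
      inv_mem' := by
        rintro x ⟨hx, hx'⟩
        exact ⟨by rw [map_inv]; exact A.inv_mem hx, by rw [inv_pow, hx', inv_one]⟩ }
  obtain ⟨t, rfl⟩ := hπs s
  have hB := commute_pow_factorial_matrix φ hφ (A := B) (fun a ha b hb => hlift a b ha.1 hb.1) (N := 3 ^ k)
    (by rw [Nat.cast_pow]; exact pow_ne_zero _ (by exact_mod_cast h3)) (fun a ha => ha.2) (s := t) (by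
      rintro a ⟨ha, ha'⟩
      refine ⟨by rw [map_mul, map_mul, map_inv]; exact hs _ ha, ?_⟩
      rw [conj_pow, ha', mul_one, mul_inv_cancel])
  have hdvd : N ∣ (Fintype.card ι).factorial := by
    apply hN'
    intro a ha
    obtain ⟨x, rfl⟩ := hπs a
    have h1 : x ^ m ∈ B := by
      refine ⟨by rw [map_pow]; exact A.pow_mem ha m, ?_⟩
      rw [← pow_mul, mul_comm, ← hcard]
      exact pow_card_eq_one'
    have h2 := hB _ h1
    have h4 : Commute (π t ^ (Fintype.card ι).factorial) (π x ^ m) := by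
      have := congrArg π h2
      rw [map_mul, map_mul, map_pow, map_pow] at this
      exact this
    have hm : m.Coprime 3 := (Nat.Coprime.symm ((Nat.Prime.coprime_iff_not_dvd Nat.prime_three).2 hm3))
    have h5 : π x = (π x ^ m) ^ (m.gcdA 3) := by
      have h6 : (m.gcd 3 : ℤ) = m * m.gcdA 3 + (3 : ℕ) * m.gcdB 3 := Nat.gcd_eq_gcd_ab m 3
      rw [hm.gcd_eq_one] at h6
      calc π x = π x ^ (((1 : ℕ) : ℤ)) := by rw [Nat.cast_one, zpow_one]
        _ = π x ^ ((m : ℤ) * m.gcdA 3) * (π x ^ (((3 : ℕ) : ℤ) * m.gcdB 3)) := by rw [h6, zpow_add]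
        _ = (π x ^ m) ^ (m.gcdA 3) := by
          rw [zpow_mul, zpow_mul, zpow_natCast, zpow_natCast, hexp _ ha, one_zpow, mul_one]
    rw [h5]
    exact (h4.zpow_right _).eq
  exact (hN.dvd_factorial).1 hdvd

end Cfsg.Agent.H352.Frob313
end

-- part: H352/Frob313Fam
section
/-!
# Degrees of classical groups in characteristic `≠ 3` with an `Act N` (helper352)
-/

set_option autoImplicit false

namespace Cfsg.Agent.H352.Frob313

open Cfsg

variable {F : Type*} [Field F] {N : ℕ} {X : Type*} [Group X]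

theorem psl [Finite F] (hN : N.Prime) (h3 : (3 : F) ≠ 0) {n : ℕ} (h : Act N X)
    (e : X ≃* Matrix.ProjectiveSpecialLinearGroup (Fin n) F) : N ≤ n := by
  have := Fintype.ofFinite F
  have h1 := Act.le (M := Matrix.SpecialLinearGroup (Fin n) F) hN (h.congr e) (F := F) (ι := Fin n) h3
    ((Units.coeHom (Matrix (Fin n) (Fin n) F)).comp Matrix.SpecialLinearGroup.toGL) (by
      intro a b hab
      exact Subtype.ext hab)
  rwa [Fintype.card_fin] at h1

theorem psp [Finite F] (hN : N.Prime) (h3 : (3 : F) ≠ 0) {m : ℕ} (h : Act N X) (e : X ≃* PSp m F) :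
    N ≤ m + m := by
  have : Finite ↥(Matrix.symplecticGroup (Fin m) F) := Subtype.finite
  have h1 := Act.le (M := ↥(Matrix.symplecticGroup (Fin m) F)) hN (h.congr e) (F := F) (ι := Fin m ⊕ Fin m) h3
    (Submonoid.subtype (Matrix.symplecticGroup (Fin m) F)) Subtype.val_injective
  rwa [Fintype.card_sum, Fintype.card_fin] at h1

theorem psu [Fintype F] (hN : N.Prime) (h3 : (3 : F) ≠ 0) {n q : ℕ}
    (h : Act N X) (e : X ≃* PSU n F q) : N ≤ n := by
  have h1 := Act.le (M := ↥(SU n F q)) hN (h.congr e) (F := F) (ι := Fin n) h3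
    ((slToMat n F).comp (SU n F q).subtype) (by
      intro a b hab
      exact Subtype.ext (Subtype.ext hab))
  rwa [Fintype.card_fin] at h1

theorem omega_inj {κ : Type} [Fintype κ] [DecidableEq κ] (Q : (κ → F) → F) :
    Function.Injective (((Units.coeHom (Matrix κ κ F)).comp (isometryGroup F Q).subtype).comp (Omega F Q).subtype) := by
  intro a b hab
  exact Subtype.ext (Subtype.ext (Units.ext hab))

theorem pomega [Finite F] (hN : N.Prime) (h3 : (3 : F) ≠ 0) {κ : Type} [Fintype κ] [DecidableEq κ] (Q : (κ → F) → F)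
    (h : Act N X) (e : X ≃* POmega F Q) : N ≤ Fintype.card κ :=
  Act.le (M := ↥(Omega F Q)) hN (h.congr e) (F := F) (ι := κ) h3
    (((Units.coeHom (Matrix _ _ F)).comp (isometryGroup F _).subtype).comp (Omega F _).subtype) (omega_inj _)

theorem oodd [Finite F] (hN : N.Prime) (h3 : (3 : F) ≠ 0) {m : ℕ} (h : Act N X)
    (e : X ≃* POmega F (quadFormOdd m F)) : N ≤ 1 + (m + m) := by
  rw [← LieClassical.OmegaReindex.coe_quadOdd] at e
  have h1 := pomega hN h3 _ h e
  simpa only [Fintype.card_sum, Fintype.card_fin, Fintype.card_unit] using h1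

theorem oplus [Finite F] (hN : N.Prime) (h3 : (3 : F) ≠ 0) {m : ℕ} (h : Act N X)
    (e : X ≃* POmega F (quadFormPlus m F)) : N ≤ m + m := by
  rw [← LieClassical.OmegaReindex.coe_quadPlus] at e
  have h1 := pomega hN h3 _ h e
  simpa only [Fintype.card_sum, Fintype.card_fin, Fintype.card_unit] using h1

theorem ominus [Finite F] (hN : N.Prime) (h3 : (3 : F) ≠ 0) {m : ℕ} {a b : F} (h : Act N X)
    (e : X ≃* POmega F (quadFormMinus m F a b)) : N ≤ m + m + 2 := by
  rw [← LieClassical.OmegaReindex.coe_quadMinus] at e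
  have h1 := pomega hN h3 _ h e
  simpa only [Fintype.card_sum, Fintype.card_fin, Fintype.card_unit] using h1

end Cfsg.Agent.H352.Frob313
end

-- part: H352/Three13
section
/-!
# The 3-part of the order formulas of classical groups of degree at least 13, characteristic prime to 3 (helper352)
-/

set_option autoImplicit false

namespace Cfsg.Agent.H352.Three13

theorem three_dvd {q : ℕ} (hq : ¬ 3 ∣ q) (k : ℕ) : 3 ∣ q ^ (2 * k) - 1 := by
  have h1 : q ^ 2 % 3 = 1 := by
    have h2 : q % 3 = 1 ∨ q % 3 = 2 := by omega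
    rw [Nat.pow_mod]
    rcases h2 with h | h <;> rw [h]
  have h3 : q ^ (2 * k) % 3 = 1 := by
    rw [pow_mul, Nat.pow_mod, h1, one_pow]
    norm_num
  omega

theorem nine_dvd {q : ℕ} (hq : ¬ 3 ∣ q) (k : ℕ) : 9 ∣ q ^ (6 * k) - 1 := by
  have h1 : q ^ 6 % 9 = 1 := by
    have h2 : q % 9 = 1 ∨ q % 9 = 2 ∨ q % 9 = 4 ∨ q % 9 = 5 ∨ q % 9 = 7 ∨ q % 9 = 8 := by omega
    rw [Nat.pow_mod]
    rcases h2 with h | h | h | h | h | h <;> rw [h]
  have h3 : q ^ (6 * k) % 9 = 1 := by
    rw [pow_mul, Nat.pow_mod, h1, one_pow]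
    norm_num
  omega

theorem sub_dvd {q d : ℕ} (hd : d ∣ q - 1) (k : ℕ) : d ∣ q ^ k - 1 :=
  hd.trans (by simpa only [_root_.one_pow] using Nat.sub_dvd_pow_sub_pow q 1 k)

theorem add_dvd {q d : ℕ} (hd : d ∣ q + 1) {k : ℕ} (hk : Odd k) : d ∣ q ^ k + 1 :=
  hd.trans (by simpa using Odd.nat_add_dvd_pow_add_pow q 1 hk)

theorem lin13 {q d : ℕ} (hq : ¬ 3 ∣ q) (hd : d ∣ q - 1) :
    (q - 1) * (d * 3 ^ 8) ∣ ∏ i ∈ Finset.range 13, (q ^ (i + 1) - 1) := by
  have h1 : ∏ i ∈ Finset.range 13, (if i = 0 then q - 1 else if i = 2 then d else if i % 6 = 5 then 9 else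
      if i % 2 = 1 then 3 else 1) = (q - 1) * (d * 3 ^ 8) := by
    simp only [Finset.prod_range_succ, Finset.prod_range_zero]
    norm_num only [_root_.ite_false, _root_.ite_true, _root_.one_mul, _root_.mul_one]
    ring
  rw [← h1]
  apply Finset.prod_dvd_prod_of_dvd
  intro i _
  split_ifs with h0 h2 h4 h3
  · rw [h0, zero_add, pow_one]
  · exact sub_dvd hd _
  · obtain ⟨k, hk⟩ : ∃ k, i + 1 = 6 * k := ⟨(i + 1) / 6, by omega⟩
    rw [hk]
    exact nine_dvd hq k
  · obtain ⟨k, hk⟩ : ∃ k, i + 1 = 2 * k := ⟨(i + 1) / 2, by omega⟩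
    rw [hk]
    exact three_dvd hq k
  · exact one_dvd _

theorem uni13 {q d : ℕ} (hq : ¬ 3 ∣ q) (hd : d ∣ q + 1) :
    (q + 1) * (d * 3 ^ 8) ∣ ∏ i ∈ Finset.range 13, (if Even i then q ^ (i + 1) + 1 else q ^ (i + 1) - 1) := by
  have h1 : ∏ i ∈ Finset.range 13, (if i = 0 then q + 1 else if i = 2 then d else if i % 6 = 5 then 9 else
      if i % 2 = 1 then 3 else 1) = (q + 1) * (d * 3 ^ 8) := by
    simp only [Finset.prod_range_succ, Finset.prod_range_zero]
    norm_num only [_root_.ite_false, _root_.ite_true, _root_.one_mul, _root_.mul_one]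
    ring
  rw [← h1]
  apply Finset.prod_dvd_prod_of_dvd
  intro i _
  by_cases h0 : i = 0
  · subst h0; simp only [↓ _root_.reduceIte, _root_.Even.zero, _root_.zero_add, _root_.pow_one, _root_.dvd_refl]
  rw [if_neg h0]
  by_cases h2 : i = 2
  · subst h2
    rw [if_pos rfl, if_pos (by decide)]
    exact add_dvd hd (by decide)
  rw [if_neg h2]
  by_cases h4 : i % 6 = 5
  · rw [if_pos h4, if_neg (by rw [Nat.even_iff]; omega)]
    obtain ⟨k, hk⟩ : ∃ k, i + 1 = 6 * k := ⟨(i + 1) / 6, by omega⟩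
    rw [hk]
    exact nine_dvd hq k
  rw [if_neg h4]
  by_cases h3 : i % 2 = 1
  · rw [if_pos h3, if_neg (by rw [Nat.even_iff]; omega)]
    obtain ⟨k, hk⟩ : ∃ k, i + 1 = 2 * k := ⟨(i + 1) / 2, by omega⟩
    rw [hk]
    exact three_dvd hq k
  · rw [if_neg h3]
    exact one_dvd _

/-- linear groups -/
theorem psl {q n c : ℕ} (hq : ¬ 3 ∣ q) (hq1 : 1 < q) (hn : 13 ≤ n)
    (h : Nat.gcd n (q - 1) * ((q - 1) * c) = ∏ i : Fin n, (q ^ n - q ^ (i : ℕ))) : 3 ^ 8 ∣ c := by
  rw [Fin.prod_univ_eq_prod_range (fun i => q ^ n - q ^ i) n, ← Finset.prod_range_reflect] at h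
  have h1 : ∏ i ∈ Finset.range n, (q ^ (i + 1) - 1) ∣ ∏ j ∈ Finset.range n, (q ^ n - q ^ (n - 1 - j)) := by
    apply Finset.prod_dvd_prod_of_dvd
    intro i hi
    rw [Finset.mem_range] at hi
    refine ⟨q ^ (n - 1 - i), ?_⟩
    rw [Nat.sub_mul, one_mul, ← pow_add]
    congr 2
    omega
  have h2 : (q - 1) * (Nat.gcd n (q - 1) * 3 ^ 8) ∣ Nat.gcd n (q - 1) * ((q - 1) * c) := by
    rw [h]
    exact ((lin13 hq (Nat.gcd_dvd_right _ _)).trans
      (Finset.prod_dvd_prod_of_subset _ _ _ (Finset.range_mono hn))).trans h1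
  have h3 : 0 < (q - 1) * Nat.gcd n (q - 1) :=
    Nat.mul_pos (by omega) (Nat.gcd_pos_of_pos_right _ (by omega))
  apply Nat.dvd_of_mul_dvd_mul_left h3
  convert h2 using 1 <;> ring

/-- unitary groups -/
theorem psu {q n c : ℕ} (hq : ¬ 3 ∣ q) (hn : 13 ≤ n)
    (h : Nat.gcd n (q + 1) * ((q + 1) * c) =
      q ^ (n * (n - 1) / 2) * ∏ i ∈ Finset.range n, (if Even i then q ^ (i + 1) + 1 else q ^ (i + 1) - 1)) :
    3 ^ 8 ∣ c := by
  have h2 : (q + 1) * (Nat.gcd n (q + 1) * 3 ^ 8) ∣ Nat.gcd n (q + 1) * ((q + 1) * c) := by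
    rw [h]
    exact ((uni13 hq (Nat.gcd_dvd_right _ _)).trans
      (Finset.prod_dvd_prod_of_subset _ _ _ (Finset.range_mono hn))).trans (Dvd.intro_left _ rfl)
  have h3 : 0 < (q + 1) * Nat.gcd n (q + 1) :=
    Nat.mul_pos (by omega) (Nat.gcd_pos_of_pos_right _ (by omega))
  apply Nat.dvd_of_mul_dvd_mul_left h3
  convert h2 using 1 <;> ring

theorem prB6 {q m : ℕ} (hq : ¬ 3 ∣ q) (hm : 6 ≤ m) : 3 ^ 8 ∣ ∏ i ∈ Finset.range m, (q ^ (2 * (i + 1)) - 1) := by
  have h1 : ∏ i ∈ Finset.range 6, (if i % 3 = 2 then 9 else 3) = 3 ^ 8 := by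
    simp only [Finset.prod_range_succ, Finset.prod_range_zero]
    norm_num
  rw [← h1]
  refine Dvd.dvd.trans ?_ (Finset.prod_dvd_prod_of_subset _ _ _ (Finset.range_mono hm))
  apply Finset.prod_dvd_prod_of_dvd
  intro i _
  split_ifs with h0
  · obtain ⟨k, hk⟩ : ∃ k, 2 * (i + 1) = 6 * k := ⟨(i + 1) / 3, by omega⟩
    rw [hk]
    exact nine_dvd hq k
  · exact three_dvd hq _

/-- factors at most two -/
theorem half {d c r : ℕ} (hd : d ∣ 2) (hr : 3 ^ 8 ∣ r) (h : d * c = r) : 3 ^ 8 ∣ c := by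
  rw [← h] at hr
  refine Nat.Coprime.dvd_of_dvd_mul_left ?_ hr
  exact Nat.Coprime.coprime_dvd_right hd (by norm_num)

/-- orthogonal groups of even degree -/
theorem orth {q m c a b e : ℕ} (hq : ¬ 3 ∣ q) (hm : 6 ≤ m) (ha : 0 < a) (hab : a ∣ b)
    (h : a * c = q ^ e * b * ∏ i ∈ Finset.range m, (q ^ (2 * (i + 1)) - 1)) : 3 ^ 8 ∣ c := by
  obtain ⟨t, rfl⟩ := hab
  have h1 : c = q ^ e * t * ∏ i ∈ Finset.range m, (q ^ (2 * (i + 1)) - 1) := by
    apply Nat.eq_of_mul_eq_mul_left ha
    rw [h]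
    ring
  rw [h1]
  exact (prB6 hq hm).trans (Dvd.intro_left _ rfl)

/-- `²F₄(q)` -/
theorem tf4 {q : ℕ} (hq : q % 3 = 2) (h : 3 ^ 6 ∣ q ^ 12 * (q ^ 6 + 1) * (q ^ 4 - 1) * (q ^ 3 + 1) * (q - 1)) :
    3 ^ 7 ∣ q ^ 12 * (q ^ 6 + 1) * (q ^ 4 - 1) * (q ^ 3 + 1) * (q - 1) := by
  have hq1 : 1 ≤ q := by omega
  have c0 : Nat.Coprime 3 q := (Nat.Prime.coprime_iff_not_dvd Nat.prime_three).2 (by omega)
  have h2 : q ^ 2 % 3 = 1 := by rw [Nat.pow_mod, hq]
  have c1 : Nat.Coprime 3 (q ^ 6 + 1) := by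
    rw [Nat.Prime.coprime_iff_not_dvd Nat.prime_three]
    have : q ^ 6 % 3 = 1 := by rw [Nat.pow_mod, hq]
    omega
  have c2 : Nat.Coprime 3 (q ^ 2 + 1) := by
    rw [Nat.Prime.coprime_iff_not_dvd Nat.prime_three]
    omega
  have c3 : Nat.Coprime 3 (q - 1) := by
    rw [Nat.Prime.coprime_iff_not_dvd Nat.prime_three]
    omega
  have e4 : q ^ 4 - 1 = (q ^ 2 + 1) * ((q + 1) * (q - 1)) := by
    obtain ⟨r, rfl⟩ : ∃ r, q = r + 1 := ⟨q - 1, by omega⟩
    have : (r + 1) ^ 4 = ((r + 1) ^ 2 + 1) * ((r + 1 + 1) * (r + 1 - 1)) + 1 := by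
      rw [Nat.add_sub_cancel]; ring
    rw [this, Nat.add_sub_cancel]
  -- `q = 3 r + 2`
  obtain ⟨r, hr⟩ : ∃ r, q = 3 * r + 2 := ⟨q / 3, by omega⟩
  have e3 : q ^ 3 + 1 = (q + 1) * (3 * (3 * r ^ 2 + 3 * r + 1)) := by rw [hr]; ring
  have c4 : Nat.Coprime 3 (3 * r ^ 2 + 3 * r + 1) := by
    rw [Nat.Prime.coprime_iff_not_dvd Nat.prime_three]
    omega
  have h5 : 3 ^ 5 ∣ (r + 1) ^ 2 * 3 ^ 2 := by
    have e5 : q ^ 12 * (q ^ 6 + 1) * (q ^ 4 - 1) * (q ^ 3 + 1) * (q - 1) =
        ((r + 1) ^ 2 * 3 ^ 2 * 3) * (q ^ 12 * (q ^ 6 + 1) * (q ^ 2 + 1) * (q - 1) * (q - 1) *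
          (3 * r ^ 2 + 3 * r + 1)) := by
      rw [e4, e3]
      generalize q - 1 = t
      have : q + 1 = 3 * (r + 1) := by rw [hr]; ring
      rw [this]; ring
    rw [e5] at h
    have c5 : Nat.Coprime (3 ^ 6) (q ^ 12 * (q ^ 6 + 1) * (q ^ 2 + 1) * (q - 1) * (q - 1) *
          (3 * r ^ 2 + 3 * r + 1)) := by
      apply Nat.Coprime.pow_left
      exact Nat.Coprime.mul_right (Nat.Coprime.mul_right (Nat.Coprime.mul_right (Nat.Coprime.mul_right
        (Nat.Coprime.mul_right (c0.pow_right 12) c1) c2) c3) c3) c4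
    have h6 := c5.dvd_of_dvd_mul_right h
    rw [show (3 : ℕ) ^ 6 = 3 ^ 5 * 3 by norm_num] at h6
    exact Nat.dvd_of_mul_dvd_mul_right (by norm_num) h6
  have h6 : 3 ^ 3 ∣ (r + 1) ^ 2 := by
    rw [show (3 : ℕ) ^ 5 = 3 ^ 3 * 3 ^ 2 by norm_num] at h5
    exact Nat.dvd_of_mul_dvd_mul_right (by norm_num) h5
  have h7 : 3 ∣ r + 1 := Nat.prime_three.dvd_of_dvd_pow (Dvd.dvd.trans (by norm_num) h6)
  obtain ⟨t, ht⟩ := h7
  have h8 : 3 ∣ t := by
    rw [ht, mul_pow, show (3 : ℕ) ^ 3 = 3 ^ 2 * 3 by norm_num] at h6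
    have := Nat.dvd_of_mul_dvd_mul_left (by norm_num) h6
    exact Nat.prime_three.dvd_of_dvd_pow this
  obtain ⟨w, hw⟩ := h8
  have e6 : q + 1 = 3 ^ 3 * w := by rw [hr]; omega
  have e7 : q ^ 12 * (q ^ 6 + 1) * (q ^ 4 - 1) * (q ^ 3 + 1) * (q - 1) =
      3 ^ 7 * (q ^ 12 * (q ^ 6 + 1) * ((q ^ 2 + 1) * (w * (q - 1))) * (w * (3 * r ^ 2 + 3 * r + 1)) * (q - 1)) := by
    rw [e4, e3, e6]; ring
  rw [e7]
  exact Dvd.intro _ rfl

end Cfsg.Agent.H352.Three13
end

-- part: H352/Elim/Main
section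
/-!
# The elimination for `L₄(3)` (helper352)
-/

set_option autoImplicit false

namespace Cfsg.Agent.H352.Elim

open Cfsg Cfsg.Agent.OrdDiv Cfsg.Agent.H352.Frob313

universe u

/-- the facts used in the elimination -/
structure El (X : Type*) [Group X] : Prop where
  act : Act 13 X
  h7 : ¬ 3 ^ 7 ∣ Nat.card X
  hP : 151632 ∣ Nat.card X
  z : ∃ z : X, z ^ 3 = 1 ∧ z ≠ 1 ∧ Nat.card ↥(Subgroup.centralizer ({z} : Set X)) = 5832
  uniq : ∀ x : X, x ^ 3 = 1 → x ≠ 1 → 3 ^ 6 ∣ Nat.card ↥(Subgroup.centralizer ({x} : Set X)) →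
    Nat.card ↥(Subgroup.centralizer ({x} : Set X)) = 5832
  cen : ∀ U : Subgroup X, Nat.card ↥U = 729 → Nat.card ↥(U ⊓ Subgroup.centralizer (U : Set X)) ≤ 3

theorem card_centralizer_congr {X Y : Type*} [Group X] [Group Y] (e : X ≃* Y) (x : X) :
    Nat.card ↥(Subgroup.centralizer ({e x} : Set Y)) = Nat.card ↥(Subgroup.centralizer ({x} : Set X)) := by
  have h : (Subgroup.centralizer ({x} : Set X)).map e.toMonoidHom = Subgroup.centralizer ({e x} : Set Y) := by
    ext y
    rw [Subgroup.mem_map, Subgroup.mem_centralizer_singleton_iff]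
    constructor
    · rintro ⟨a, ha, rfl⟩
      rw [Subgroup.mem_centralizer_singleton_iff] at ha
      show e a * e x = e x * e a
      rw [← map_mul, ha, map_mul]
    · intro hy
      refine ⟨e.symm y, ?_, by simp⟩
      rw [Subgroup.mem_centralizer_singleton_iff]
      apply e.injective
      simpa only [_root_.map_mul, _root_.MulEquiv.apply_symm_apply] using hy
  rw [← h]
  exact (Nat.card_congr ((Subgroup.centralizer ({x} : Set X)).equivMapOfInjective e.toMonoidHom e.injective).toEquiv).symm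

theorem El.congr {X Y : Type*} [Group X] [Group Y] (e : X ≃* Y) (h : El X) : El Y where
  act := h.act.congr e
  h7 := by rw [← Nat.card_congr e.toEquiv]; exact h.h7
  hP := by rw [← Nat.card_congr e.toEquiv]; exact h.hP
  z := by
    obtain ⟨z, h1, h2, h3⟩ := h.z
    refine ⟨e z, by rw [← map_pow, h1, map_one], ?_, ?_⟩
    · intro h4; exact h2 (e.injective (by rw [h4, map_one]))
    · rw [card_centralizer_congr, h3]
  uniq := by
    intro x hx hx1 hd
    obtain ⟨x, rfl⟩ := e.surjective x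
    rw [card_centralizer_congr] at hd ⊢
    apply h.uniq x _ _ hd
    · apply e.injective; rw [map_pow, hx, map_one]
    · rintro rfl; exact hx1 (map_one e)
  cen := by
    intro U hU
    have h1 := h.cen (U.map e.symm.toMonoidHom) (by
      rw [← hU]
      exact (Nat.card_congr (U.equivMapOfInjective e.symm.toMonoidHom e.symm.injective).toEquiv).symm)
    refine le_trans (le_of_eq ?_) h1
    have h2 : (U ⊓ Subgroup.centralizer (U : Set Y)).map e.symm.toMonoidHom =
        U.map e.symm.toMonoidHom ⊓ Subgroup.centralizer ((U.map e.symm.toMonoidHom : Subgroup X) : Set X) := by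
      ext x
      constructor
      · rintro ⟨y, ⟨hy1, hy2⟩, rfl⟩
        refine ⟨⟨y, hy1, rfl⟩, Subgroup.mem_centralizer_iff.2 ?_⟩
        rintro _ ⟨u, hu, rfl⟩
        show e.symm u * e.symm y = e.symm y * e.symm u
        rw [← map_mul, Subgroup.mem_centralizer_iff.1 hy2 u hu, map_mul]
      · rintro ⟨⟨y, hy1, rfl⟩, hy2⟩
        refine ⟨y, ⟨hy1, Subgroup.mem_centralizer_iff.2 ?_⟩, rfl⟩
        intro u hu
        have := Subgroup.mem_centralizer_iff.1 hy2 (e.symm u) ⟨u, hu, rfl⟩
        apply e.symm.injective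
        rw [map_mul, map_mul]; exact this
    rw [← h2]
    exact Nat.card_congr ((U ⊓ Subgroup.centralizer (U : Set Y)).equivMapOfInjective e.symm.toMonoidHom
      e.symm.injective).toEquiv

/-- the condition on the order -/
def P (c : ℕ) : Bool := (c % 151632 == 0) && (c % 2187 != 0)

theorem El.P {X : Type*} [Group X] (h : El X) : P (Nat.card X) = true := by
  unfold Elim.P
  rw [Bool.and_eq_true]
  refine ⟨by simpa using Nat.mod_eq_zero_of_dvd h.hP, ?_⟩
  have := h.h7
  norm_num at this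
  simpa only [Nat.dvd_iff_mod_eq_zero, _root_.bne_iff_ne, _root_.ne_eq] using this

/-- candidates in characteristic 3 -/
def candT (D : Fam) : List (ℕ × ℕ) :=
  (box [(3, 6)] D.e D.lo).filter fun x => D.ok x.1 x.2 && P (D.num x.1 x.2 / D.den x.1 x.2)

theorem mem_candT (D : Fam) {n q c : ℕ} (hq : IsPrimePow q) (hqe : 3 ∣ q)
    (hlo : D.lo ≤ n) (hn : n ≤ D.e n + 1) (he1 : 1 ≤ D.e n) (hok : D.ok n q = true)
    (hc : D.den n q * c = D.num n q) (hpow : q ^ D.e n ∣ D.num n q) (hcop : (D.den n q).Coprime q)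
    (h7 : ¬ 3 ^ 7 ∣ c) (hP : P c = true) : (n, q) ∈ candT D := by
  unfold candT
  rw [List.mem_filter]
  obtain ⟨p, f, hp, hf, rfl⟩ := (isPrimePow_nat_iff q).1 hq
  have hp3 : p = 3 := ((Nat.prime_dvd_prime_iff_eq Nat.prime_three hp).1 (Nat.prime_three.dvd_of_dvd_pow hqe)).symm
  subst hp3
  constructor
  · have h1 : (3 ^ f) ^ D.e n ∣ c := by
      rw [← hc] at hpow
      exact Nat.Coprime.dvd_of_dvd_mul_left (Nat.Coprime.pow_left _ hcop.symm) hpow
    rw [← pow_mul] at h1
    refine mem_box (List.mem_singleton.2 rfl) hf hlo hn he1 ?_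
    by_contra hlt
    push Not at hlt
    apply h7
    exact (pow_dvd_pow 3 (by rw [mul_comm] at hlt; omega)).trans h1
  · rw [Bool.and_eq_true]
    refine ⟨hok, ?_⟩
    rw [← div_eq hq hcop hc]
    exact hP

theorem three_ne {F : Type*} [Field F] [Fintype F] (h : ¬ 3 ∣ Fintype.card F) : (3 : F) ≠ 0 := by
  intro h3
  apply h
  obtain ⟨p, hp⟩ := CharP.exists F
  have hpp : p.Prime := (CharP.char_is_prime_or_zero F p).resolve_right (by
    intro h0
    subst h0
    have := CharP.charP_to_charZero F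
    exact not_finite F)
  obtain ⟨n, hn⟩ := FiniteField.card F p
  have h1 : p ∣ 3 := (CharP.cast_eq_zero_iff F p 3).1 (by exact_mod_cast h3)
  have h2 : p = 3 := (Nat.prime_dvd_prime_iff_eq hpp Nat.prime_three).1 h1
  rw [hn.2, h2]
  exact dvd_pow_self 3 n.ne_zero

theorem three_ne_of_pow {F : Type*} [Field F] [Fintype F] {q k : ℕ} (hF : Fintype.card F = q ^ k) (h : ¬ 3 ∣ q) :
    (3 : F) ≠ 0 := three_ne (by rw [hF]; exact fun h1 => h (Nat.prime_three.dvd_of_dvd_pow h1))

/-! ### the classical families -/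

section

variable {X : Type*} [Group X]

theorem psl_case {F : Type} [Field F] [Fintype F] {n : ℕ} (hn : 2 ≤ n) (hn2 : n = 2 → 4 ≤ Fintype.card F)
    (h : El X) (e : X ≃* Matrix.ProjectiveSpecialLinearGroup (Fin n) F) : (n, Fintype.card F) ∈ candT fPSL := by
  have hP := h.P
  have h38 := h.h7
  have hcX : Nat.card X = Nat.card (Matrix.ProjectiveSpecialLinearGroup (Fin n) F) := Nat.card_congr e.toEquiv
  by_cases ho : 3 ∣ Fintype.card F
  swap
  · exfalso
    have h1 := psl (by norm_num) (three_ne ho) h.act e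
    have h2 := Three13.psl ho Fintype.one_lt_card h1 (S0243.result (F := F) rfl n hn)
    rw [← hcX] at h2
    exact h38 ((pow_dvd_pow 3 (by norm_num)).trans h2)
  rw [hcX] at h38 hP
  have hq : 1 < Fintype.card F := Fintype.one_lt_card
  have hc : fPSL.den n (Fintype.card F) * Nat.card (Matrix.ProjectiveSpecialLinearGroup (Fin n) F) =
      fPSL.num n (Fintype.card F) := by
    have h := S0243.result (F := F) rfl n hn
    rw [Fin.prod_univ_eq_prod_range (fun i => Fintype.card F ^ n - Fintype.card F ^ i) n, ← prod_list] at h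
    change Nat.gcd n (Fintype.card F - 1) * (Fintype.card F - 1) * _ = glN n (Fintype.card F)
    rw [mul_assoc]
    exact h
  refine mem_candT fPSL Fintype.isPrimePow_card_of_field ho hn (le_tri hn).1 (le_tri hn).2 ?_ hc
    (pow_dvd_glN n _) ?_ h38 hP
  · change (!(Nat.beq n 2 && Nat.blt (Fintype.card F) 4)) = true
    by_cases h2 : n = 2
    · have h4 := hn2 h2
      have : Nat.blt (Fintype.card F) 4 = false := by
        rw [← Bool.not_eq_true, Nat.blt_eq]
        omega
      rw [this, Bool.and_false]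
      rfl
    · have : Nat.beq n 2 = false := by
        rw [← Bool.not_eq_true, Nat.beq_eq]
        exact h2
      rw [this, Bool.false_and]
      rfl
  · change (Nat.gcd n (Fintype.card F - 1) * (Fintype.card F - 1)).Coprime (Fintype.card F)
    have h1 := cop_sub (q := Fintype.card F) (k := 1) (by omega) le_rfl
    rw [pow_one] at h1
    exact Nat.Coprime.mul_left (Nat.Coprime.coprime_dvd_left (Nat.gcd_dvd_right _ _) h1) h1

theorem psp_case {F : Type} [Field F] [Fintype F] {m : ℕ} (hm : 2 ≤ m) (hm2 : m = 2 → 3 ≤ Fintype.card F)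
    (h : El X) (e : X ≃* PSp m F) : (m, Fintype.card F) ∈ candT fPSp := by
  have hP := h.P
  have h38 := h.h7
  have hcX : Nat.card X = Nat.card (PSp m F) := Nat.card_congr e.toEquiv
  have hq : 1 < Fintype.card F := Fintype.one_lt_card
  have hc : fPSp.den m (Fintype.card F) * Nat.card (PSp m F) = fPSp.num m (Fintype.card F) := by
    have h1 := S0245.result (F := F) rfl m
    have h2 := S0246.result (F := F) rfl m (by omega)
    have h3 := Subgroup.card_eq_card_quotient_mul_card_subgroup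
      (Subgroup.center (Matrix.symplecticGroup (Fin m) F))
    rw [← prod_list (fun i => Fintype.card F ^ (2 * (i + 1)) - 1)] at h1
    rw [h1, h2] at h3
    change Nat.gcd 2 (Fintype.card F - 1) * Nat.card (PSp m F) = Fintype.card F ^ (m ^ 2) * prB (Fintype.card F) m
    rw [mul_comm]
    exact h3.symm
  by_cases ho : 3 ∣ Fintype.card F
  swap
  · exfalso
    have h1 := psp (by norm_num) (three_ne ho) h.act e
    have h2 : 3 ^ 8 ∣ Nat.card (PSp m F) := by
      refine Three13.half (Nat.gcd_dvd_left 2 (Fintype.card F - 1)) ?_ hc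
      change 3 ^ 8 ∣ Fintype.card F ^ (m ^ 2) * prB (Fintype.card F) m
      unfold prB
      rw [prod_list]
      exact (Three13.prB6 ho (by omega)).trans (Dvd.intro_left _ rfl)
    rw [← hcX] at h2
    exact h38 ((pow_dvd_pow 3 (by norm_num)).trans h2)
  rw [hcX] at h38 hP
  have hmm : m ≤ m ^ 2 := by nlinarith only []
  refine mem_candT fPSp Fintype.isPrimePow_card_of_field ho hm (hmm.trans (Nat.le_succ _))
    (Nat.one_le_pow _ _ (by omega)) ?_ hc (Dvd.intro _ rfl) ?_ h38 hP
  · change (!(Nat.beq m 2 && Nat.blt (Fintype.card F) 3)) = true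
    by_cases h2 : m = 2
    · have h4 := hm2 h2
      have : Nat.blt (Fintype.card F) 3 = false := by
        rw [← Bool.not_eq_true, Nat.blt_eq]
        omega
      rw [this, Bool.and_false]
      rfl
    · have : Nat.beq m 2 = false := by
        rw [← Bool.not_eq_true, Nat.beq_eq]
        exact h2
      rw [this, Bool.false_and]
      rfl
  · change (Nat.gcd 2 (Fintype.card F - 1)).Coprime (Fintype.card F)
    have h1 := cop_sub (q := Fintype.card F) (k := 1) (by omega) le_rfl
    rw [pow_one] at h1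
    exact Nat.Coprime.coprime_dvd_left (Nat.gcd_dvd_right _ _) h1

theorem psu_case {F : Type} [Field F] [Fintype F] {n q : ℕ} (hF : Fintype.card F = q ^ 2) (hn : 3 ≤ n)
    (hn2 : ¬ (n = 3 ∧ q = 2)) (h : El X) (e : X ≃* PSU n F q) : (n, q) ∈ candT fPSU := by
  have hP := h.P
  have h38 := h.h7
  have hcX : Nat.card X = Nat.card (PSU n F q) := Nat.card_congr e.toEquiv
  have hq2 : IsPrimePow (q ^ 2) := hF ▸ Fintype.isPrimePow_card_of_field
  have hqp : IsPrimePow q := (isPrimePow_pow_iff (by norm_num)).1 hq2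
  by_cases ho : 3 ∣ q
  swap
  · exfalso
    have h1 := psu (by norm_num) (three_ne_of_pow hF ho) h.act e
    have h2 := Three13.psu ho h1 (S0280.result hF n (by omega))
    rw [← hcX] at h2
    exact h38 ((pow_dvd_pow 3 (by norm_num)).trans h2)
  rw [hcX] at h38 hP
  have hc : fPSU.den n q * Nat.card (PSU n F q) = fPSU.num n q := by
    have h := S0280.result hF n (by omega)
    rw [← prod_list] at h
    change Nat.gcd n (q + 1) * (q + 1) * _ = q ^ (n * (n - 1) / 2) * prU q n
    have h2 : prU q n = ((List.range n).map fun i => if Even i then q ^ (i + 1) + 1 else q ^ (i + 1) - 1).prod := by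
      unfold prU
      congr 1
      apply List.map_congr_left
      intro i _
      by_cases h : Even i
      · rw [if_pos h, if_pos]
        rw [Nat.beq_eq]
        exact Nat.even_iff.1 h
      · rw [if_neg h, if_neg]
        rw [Nat.beq_eq, ← Nat.even_iff]
        exact h
    rw [h2, mul_assoc]
    exact h
  refine mem_candT fPSU hqp ho hn (le_tri (by omega)).1 (le_tri (by omega)).2 ?_ hc (Dvd.intro _ rfl) ?_ h38 hP
  · change (!(Nat.beq n 3 && Nat.beq q 2)) = true
    by_cases h2 : n = 3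
    · have h4 : q ≠ 2 := fun h => hn2 ⟨h2, h⟩
      have : Nat.beq q 2 = false := by
        rw [← Bool.not_eq_true, Nat.beq_eq]
        exact h4
      rw [this, Bool.and_false]
      rfl
    · have : Nat.beq n 3 = false := by
        rw [← Bool.not_eq_true, Nat.beq_eq]
        exact h2
      rw [this, Bool.false_and]
      rfl
  · change (Nat.gcd n (q + 1) * (q + 1)).Coprime q
    have h1 := cop_add (q := q) (k := 1) le_rfl
    rw [pow_one] at h1
    exact Nat.Coprime.mul_left (Nat.Coprime.coprime_dvd_left (Nat.gcd_dvd_right _ _) h1) h1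

theorem oodd_case {F : Type} [Field F] [Fintype F] {m : ℕ} (hm : 3 ≤ m) (ho2 : Odd (Fintype.card F))
    (h : El X) (e : X ≃* POmega F (quadFormOdd m F)) : False := by
  have h38 := h.h7
  have hcX : Nat.card X = Nat.card (POmega F (quadFormOdd m F)) := Nat.card_congr e.toEquiv
  have hc := S0292.result (F := F) rfl ho2 m hm
  by_cases ho : 3 ∣ Fintype.card F
  · apply h38
    rw [hcX]
    have h1 : 3 ^ 7 ∣ 2 * Nat.card (POmega F (quadFormOdd m F)) := by
      rw [hc]
      refine Dvd.dvd.mul_right ?_ _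
      calc 3 ^ 7 ∣ (Fintype.card F) ^ 7 := pow_dvd_pow_of_dvd ho 7
        _ ∣ Fintype.card F ^ (m ^ 2) := pow_dvd_pow _ (by nlinarith only [hm])
    exact Nat.Coprime.dvd_of_dvd_mul_left (by norm_num) h1
  · have h1 := oodd (by norm_num) (three_ne ho) h.act e
    have h2 : 3 ^ 8 ∣ Nat.card (POmega F (quadFormOdd m F)) := by
      refine Three13.half dvd_rfl ?_ hc
      exact (Three13.prB6 ho (by omega)).trans (Dvd.intro_left _ rfl)
    rw [← hcX] at h2
    exact h38 ((pow_dvd_pow 3 (by norm_num)).trans h2)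

theorem oplus_case {F : Type} [Field F] [Fintype F] {m : ℕ} (hm : 4 ≤ m)
    (h : El X) (e : X ≃* POmega F (quadFormPlus m F)) : False := by
  have h38 := h.h7
  have hcX : Nat.card X = Nat.card (POmega F (quadFormPlus m F)) := Nat.card_congr e.toEquiv
  have hq : 1 < Fintype.card F := Fintype.one_lt_card
  have hc := S0293.result (F := F) rfl m hm
  by_cases ho : 3 ∣ Fintype.card F
  · apply h38
    rw [hcX]
    have h1 : 3 ^ 7 ∣ Nat.gcd 4 (Fintype.card F ^ m - 1) * Nat.card (POmega F (quadFormPlus m F)) := by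
      rw [hc]
      refine Dvd.dvd.mul_right (Dvd.dvd.mul_right ?_ _) _
      calc 3 ^ 7 ∣ (Fintype.card F) ^ 7 := pow_dvd_pow_of_dvd ho 7
        _ ∣ Fintype.card F ^ (m * (m - 1)) := pow_dvd_pow _ (by
          have : 4 * 3 ≤ m * (m - 1) := Nat.mul_le_mul hm (by omega)
          omega)
    exact Nat.Coprime.dvd_of_dvd_mul_left (Nat.Coprime.coprime_dvd_right (Nat.gcd_dvd_left _ _) (by norm_num)) h1
  · have h1 := oplus (by norm_num) (three_ne ho) h.act e
    have h2 := Three13.orth ho (by omega) (Nat.gcd_pos_of_pos_left _ (by norm_num)) (Nat.gcd_dvd_right _ _) hc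
    rw [← hcX] at h2
    exact h38 ((pow_dvd_pow 3 (by norm_num)).trans h2)

theorem ominus_case {F : Type} [Field F] [Fintype F] {m : ℕ} (hm : 4 ≤ m) {a b : F}
    (hab : ∀ z₁ z₂ : F, z₁ ^ 2 + a * z₁ * z₂ + b * z₂ ^ 2 = 0 → z₁ = 0 ∧ z₂ = 0)
    (h : El X) (e : X ≃* POmega F (quadFormMinus (m - 1) F a b)) : False := by
  have h38 := h.h7
  have hcX : Nat.card X = Nat.card (POmega F (quadFormMinus (m - 1) F a b)) := Nat.card_congr e.toEquiv
  have hc := S0294.result (F := F) rfl m hm a b hab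
  by_cases ho : 3 ∣ Fintype.card F
  · apply h38
    rw [hcX]
    have h1 : 3 ^ 7 ∣ Nat.gcd 4 (Fintype.card F ^ m + 1) * Nat.card (POmega F (quadFormMinus (m - 1) F a b)) := by
      rw [hc]
      refine Dvd.dvd.mul_right (Dvd.dvd.mul_right ?_ _) _
      calc 3 ^ 7 ∣ (Fintype.card F) ^ 7 := pow_dvd_pow_of_dvd ho 7
        _ ∣ Fintype.card F ^ (m * (m - 1)) := pow_dvd_pow _ (by
          have : 4 * 3 ≤ m * (m - 1) := Nat.mul_le_mul hm (by omega)
          omega)
    exact Nat.Coprime.dvd_of_dvd_mul_left (Nat.Coprime.coprime_dvd_right (Nat.gcd_dvd_left _ _) (by norm_num)) h1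
  · have h1 := ominus (by norm_num) (three_ne ho) h.act e
    have h2 := Three13.orth ho (by omega) (Nat.gcd_pos_of_pos_left _ (by norm_num)) (Nat.gcd_dvd_right _ _) hc
    rw [← hcX] at h2
    exact h38 ((pow_dvd_pow 3 (by norm_num)).trans h2)

end

/-! ### alternating groups -/

/-- the centralizer of a 3-cycle (after helper343) -/
theorem has2_alt {n : ℕ} (hn : 5 ≤ n) : ∃ y : alternatingGroup (Fin n), orderOf y = 3 ∧
    (n - 3).factorial * 3 ∣ 2 * Nat.card (Subgroup.centralizer ({y} : Set (alternatingGroup (Fin n)))) := by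
  have h3 : ∃ g : Equiv.Perm (Fin n), g.cycleType = {3} :=
    (Equiv.Perm.exists_with_cycleType_iff (Fin n)).mpr ⟨by simp only [_root_.Multiset.sum_singleton, _root_.Fintype.card_fin]; omega, by simp⟩
  obtain ⟨g, hg⟩ := h3
  have hs : g ∈ alternatingGroup (Fin n) := by
    rw [Equiv.Perm.mem_alternatingGroup]
    exact Equiv.Perm.IsThreeCycle.sign hg
  have ho : orderOf g = 3 := Equiv.Perm.IsThreeCycle.orderOf hg
  refine ⟨⟨g, hs⟩, ?_, ?_⟩
  · rw [← Subgroup.orderOf_coe]; exact ho
  · have h1 := Equiv.Perm.nat_card_centralizer g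
    rw [hg] at h1
    simp only [_root_.Fintype.card_fin, _root_.Multiset.sum_singleton, _root_.Multiset.prod_singleton, _root_.Multiset.toFinset_singleton, _root_.Multiset.nodup_singleton, _root_.Finset.prod_singleton, _root_.Multiset.mem_singleton, _root_.Multiset.count_eq_one_of_mem, _root_.Nat.factorial_one, _root_.mul_one] at h1
    have h2 : Nat.card ↥(Subgroup.centralizer ({(⟨g, hs⟩ : alternatingGroup (Fin n))} : Set (alternatingGroup (Fin n)))) =
        Nat.card ↥(alternatingGroup (Fin n) ⊓ Subgroup.centralizer ({g} : Set (Equiv.Perm (Fin n)))) := by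
      refine Nat.card_congr
        { toFun := fun c => ⟨c.1.1, c.1.2, ?_⟩
          invFun := fun c => ⟨⟨c.1, c.2.1⟩, ?_⟩
          left_inv := fun c => rfl
          right_inv := fun c => rfl }
      · have := Subgroup.mem_centralizer_singleton_iff.mp c.2
        exact Subgroup.mem_centralizer_singleton_iff.mpr (congrArg Subtype.val this)
      · have := Subgroup.mem_centralizer_singleton_iff.mp c.2.2
        exact Subgroup.mem_centralizer_singleton_iff.mpr (Subtype.ext this)
    have h3 : (alternatingGroup (Fin n)).relIndex (Subgroup.centralizer ({g} : Set (Equiv.Perm (Fin n)))) ∣ 2 := by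
      have : Nontrivial (Fin n) := Fin.nontrivial_iff_two_le.2 (by omega)
      rw [← alternatingGroup.index_eq_two (α := Fin n)]
      exact Subgroup.relIndex_dvd_index_of_normal _ _
    have h4 : (alternatingGroup (Fin n)).relIndex (Subgroup.centralizer ({g} : Set (Equiv.Perm (Fin n)))) *
        Nat.card ↥(alternatingGroup (Fin n) ⊓ Subgroup.centralizer ({g} : Set (Equiv.Perm (Fin n)))) =
        Nat.card (Subgroup.centralizer ({g} : Set (Equiv.Perm (Fin n)))) := by
      rw [← Subgroup.inf_relIndex_right, ← Subgroup.relIndex_bot_left, ← Subgroup.relIndex_bot_left, mul_comm]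
      exact Subgroup.relIndex_mul_relIndex _ _ _ bot_le inf_le_right
    rw [h2, ← h1, ← h4]
    exact Nat.mul_dvd_mul_right h3 _

theorem alt_case {X : Type*} [Group X] {n : ℕ} (hn : 5 ≤ n) (h : El X) (e : X ≃* ↥(alternatingGroup (Fin n))) :
    False := by
  have h' := h.congr e
  have hc := alt_card hn (MulEquiv.refl (alternatingGroup (Fin n)))
  have h15 : 15 ≤ n := by
    by_contra hlt
    push Not at hlt
    have h1 : 3 ^ 6 ∣ n.factorial := by
      rw [hc]
      exact ((show (3 : ℕ) ^ 6 ∣ 151632 by norm_num).trans h'.hP).mul_left 2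
    have h2 : 3 ^ 6 ∣ (14).factorial := h1.trans (Nat.factorial_dvd_factorial (by omega))
    revert h2; decide
  obtain ⟨y, hy, hd⟩ := has2_alt hn
  have h12 : (12).factorial * 3 ∣ 2 * Nat.card (Subgroup.centralizer ({y} : Set (alternatingGroup (Fin n)))) :=
    (Nat.mul_dvd_mul_right (Nat.factorial_dvd_factorial (by omega)) 3).trans hd
  have h3645 : 3645 * 2 ∣ (12).factorial * 3 := by decide
  have h5 : 3645 ∣ Nat.card (Subgroup.centralizer ({y} : Set (alternatingGroup (Fin n)))) := by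
    have := h3645.trans h12
    rw [mul_comm] at this
    exact Nat.dvd_of_mul_dvd_mul_left (by norm_num) this
  have h6 := h'.uniq y (by rw [← hy]; exact pow_orderOf_eq_one y) (by
    rintro rfl
    rw [orderOf_one] at hy
    omega) ((show (3 : ℕ) ^ 6 ∣ 3645 by norm_num).trans h5)
  rw [h6] at h5
  revert h5; decide

/-! ### exceptional groups -/

theorem not_dvd_pow {q N : ℕ} (hq : 2 ≤ q) (h3 : ¬ 3 ∣ q) (hN : 4 ≤ N) : ¬ q ^ N ∣ 5832 := by
  intro h
  have h1 : q ^ N ∣ 8 * 729 := h
  have h2 : (q ^ N).Coprime 729 := by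
    have : Nat.Coprime q (3 ^ 6) := ((Nat.Prime.coprime_iff_not_dvd Nat.prime_three).2 h3).symm.pow_right 6
    exact this.pow_left N
  have h3 := h2.dvd_of_dvd_mul_right h1
  have h4 := Nat.le_of_dvd (by norm_num) h3
  have h5 : 2 ^ 4 ≤ q ^ N := (Nat.pow_le_pow_left hq 4).trans (Nat.pow_le_pow_right (by omega) hN)
  omega

theorem charP_ne {F : Type*} [Field F] [Fintype F] (h : ¬ 3 ∣ Fintype.card F) :
    ∃ r : ℕ, ∃ _ : Fact r.Prime, ∃ _ : CharP F r, r ≠ 3 := by
  obtain ⟨p, hp⟩ := CharP.exists F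
  have hpp : p.Prime := (CharP.char_is_prime_or_zero F p).resolve_right (by
    intro h0
    subst h0
    have := CharP.charP_to_charZero F
    exact not_finite F)
  refine ⟨p, ⟨hpp⟩, hp, ?_⟩
  obtain ⟨n, hn⟩ := FiniteField.card F p
  rintro rfl
  rw [hn.2] at h
  exact h (dvd_pow_self 3 n.ne_zero)

/-- the characteristic of a field of order a power of `q` -/
theorem char_pow {F : Type*} [Field F] [Fintype F] {q k : ℕ} (hq : IsPrimePow q) (hk : k ≠ 0)
    (hF : Fintype.card F = q ^ k) {r : ℕ} [Fact r.Prime] [CharP F r] : ∃ n : ℕ, 0 < n ∧ q = r ^ n := by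
  obtain ⟨p, n, hp, hn, rfl⟩ := (isPrimePow_nat_iff q).1 hq
  obtain ⟨m, hm⟩ := FiniteField.card F r
  have h1 : p ∣ Fintype.card F := by
    rw [hF, ← pow_mul]
    exact dvd_pow_self p (Nat.mul_ne_zero hn.ne' hk)
  rw [hm.2] at h1
  have h2 : p = r := (Nat.prime_dvd_prime_iff_eq hp Fact.out).1 (hp.dvd_of_dvd_pow h1)
  exact ⟨n, hn, by rw [h2]⟩

theorem big_three {q e f c : ℕ} (h3 : 3 ∣ q) (he : 7 ≤ e) (hc : c = q ^ e * f) : 3 ^ 7 ∣ c := by
  rw [hc]
  exact Dvd.dvd.mul_right ((pow_dvd_pow_of_dvd h3 7).trans (pow_dvd_pow q he)) _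

theorem big_three' {q e f c d : ℕ} (h3 : 3 ∣ q) (he : 7 ≤ e) (hd : d.Coprime q) (hc : d * c = q ^ e * f) :
    3 ^ 7 ∣ c := by
  have h1 := big_three h3 he hc
  refine Nat.Coprime.dvd_of_dvd_mul_left ?_ h1
  exact (Nat.Coprime.coprime_dvd_right h3 hd).symm.pow_left 7

/-- **The elimination.** -/
theorem elim (T : OrderTable.{u}) {S : Type u} [Group S] (h : IsKnownSimple' S) (hS : El S) :
    Real (.psl 3 9) S ∨ Real (.psl 4 3) S ∨ Real (.g2 3) S := by
  have h7 := hS.h7
  have key : ∀ (g : Grp), g ∈ spor.map (fun x => x.1) → Real g S → False := fun g hg hr => by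
    obtain ⟨x, hx, rfl⟩ := List.mem_map.1 hg
    have h1 := hS.P
    rw [T.spor S x hx hr] at h1
    have h2 : ∀ x ∈ spor, P x.2 = false := by decide +kernel
    rw [h2 x hx] at h1
    exact absurd h1 (by decide)
  obtain ⟨z, hz3, hz1, hzc⟩ := hS.z
  rcases h with h | h | h | h | h | h | h | h | h | h
  · exfalso
    have hd : 151632 ∣ Nat.card S := hS.hP
    have h2 : 2 ∣ Nat.card S := Dvd.dvd.trans (by norm_num) hd
    have h3 : 3 ∣ Nat.card S := Dvd.dvd.trans (by norm_num) hd
    have e2 := (Nat.prime_dvd_prime_iff_eq Nat.prime_two h).1 h2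
    have e3 := (Nat.prime_dvd_prime_iff_eq Nat.prime_three h).1 h3
    omega
  · obtain ⟨n, hn, ⟨e⟩⟩ := h
    exact (alt_case hn hS e).elim
  · obtain ⟨F, _, _, n, hn, hn2, ⟨e⟩⟩ := h
    have h1 := psl_case hn hn2 hS e
    have h2 : ∀ x ∈ candT fPSL, x = (3, 9) ∨ x = (4, 3) := by decide +kernel
    rcases h2 _ h1 with h3 | h3
    · rw [Prod.mk.injEq] at h3
      obtain ⟨rfl, h4⟩ := h3
      exact Or.inl ⟨F, inferInstance, inferInstance, h4, ⟨e⟩⟩
    · rw [Prod.mk.injEq] at h3
      obtain ⟨rfl, h4⟩ := h3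
      exact Or.inr (Or.inl ⟨F, inferInstance, inferInstance, h4, ⟨e⟩⟩)
  · obtain ⟨F, _, _, n, hn, hn2, ⟨e⟩⟩ := h
    exfalso
    have h1 := psp_case hn hn2 hS e
    have h2 : candT fPSp = [] := by decide +kernel
    rw [h2] at h1
    exact absurd h1 List.not_mem_nil
  · obtain ⟨F, _, _, n, q, hF, hn, hn2, ⟨e⟩⟩ := h
    exfalso
    have h1 := psu_case hF hn hn2 hS e
    have h2 : candT fPSU = [] := by decide +kernel
    rw [h2] at h1
    exact absurd h1 List.not_mem_nil
  · obtain ⟨F, _, _, n, hn, ho, ⟨e⟩⟩ := h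
    exact (oodd_case hn ho hS e).elim
  · obtain ⟨F, _, _, n, hn, ⟨e⟩⟩ := h
    exact (oplus_case hn hS e).elim
  · obtain ⟨F, _, _, n, a, b, hn, hab, ⟨e⟩⟩ := h
    exact (ominus_case hn hab hS e).elim
  · have hce : ∀ {Y : Type} [Group Y] (e : S ≃* Y), (e z) ^ 3 = 1 ∧
        Nat.card ↥(Subgroup.centralizer ({e z} : Set Y)) = 5832 := by
      intro Y _ e
      exact ⟨by rw [← map_pow, hz3, map_one], by rw [card_centralizer_congr, hzc]⟩
    rcases h with h | h | h | h | h | h | h | h | h | h | h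
    · -- `G₂`
      obtain ⟨F, _, _, hq, ⟨e⟩⟩ := h
      obtain ⟨hz, hc⟩ := hce e
      have hcard := Nat.card_congr e.toEquiv
      by_cases ho : 3 ∣ Fintype.card F
      · rw [hcard] at h7
        have hP := hS.P
        rw [hcard] at hP
        have h1 := mem_candT fG2 (n := 0) (c := Nat.card ↥(Lie.chevG2.group F)) Fintype.isPrimePow_card_of_field ho
          (Nat.zero_le _) (Nat.zero_le _) (by change 1 ≤ 6 + 1000 * 0; omega) (by
            change Nat.ble 3 (Fintype.card F) = true
            rw [Nat.ble_eq]; exact hq)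
          (by
            change 1 * Nat.card ↥(Lie.chevG2.group F) = Fintype.card F ^ 6 *
              ((Fintype.card F ^ 2 - 1) * (Fintype.card F ^ 6 - 1))
            rw [T.g2 F]; ring)
          (by
            change Fintype.card F ^ (6 + 1000 * 0) ∣ Fintype.card F ^ 6 * _
            rw [mul_zero, add_zero]; exact Dvd.intro _ rfl)
          (Nat.coprime_one_left _) h7 hP
        have h2 : ∀ x ∈ candT fG2, x.1 = 0 → x.2 = 3 := by decide +kernel
        exact Or.inr (Or.inr ⟨F, inferInstance, inferInstance, h2 _ h1 rfl, ⟨e⟩⟩)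
      · exfalso
        obtain ⟨r, _, _, hr⟩ := charP_ne ho
        have h1 := H261.pow_dvd_G2 F hr (e z) hz
        rw [hc, Nat.card_eq_fintype_card] at h1
        have h2 : (Fintype.card F).Coprime 729 := by
          have : Nat.Coprime (Fintype.card F) (3 ^ 6) :=
            ((Nat.Prime.coprime_iff_not_dvd Nat.prime_three).2 ho).symm.pow_right 6
          exact this
        have h3 : Fintype.card F ∣ 8 := h2.dvd_of_dvd_mul_right (show Fintype.card F ∣ 8 * 729 from h1)
        have h4 := Nat.le_of_dvd (by norm_num) h3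
        have h5 : Fintype.card F = 4 ∨ Fintype.card F = 8 := by
          generalize Fintype.card F = q at h3 h4 hq ⊢
          interval_cases q <;> revert h3 <;> decide
        have h6 := hS.P
        rw [hcard, T.g2 F] at h6
        rcases h5 with h5 | h5 <;> rw [h5] at h6 <;> revert h6 <;> decide +kernel
    · -- `F₄`
      obtain ⟨F, _, _, ⟨e⟩⟩ := h
      exfalso
      obtain ⟨hz, hc⟩ := hce e
      have hcard := Nat.card_congr e.toEquiv
      by_cases ho : 3 ∣ Fintype.card F
      · exact h7 (big_three ho (show 7 ≤ 24 by norm_num) (by rw [hcard, T.f4 F _ rfl]; simp only [mul_assoc]; rfl))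
      · obtain ⟨r, _, _, hr⟩ := charP_ne ho
        have h1 := H261.pow_dvd_F4 F hr (e z) hz
        rw [hc, Nat.card_eq_fintype_card] at h1
        exact not_dvd_pow Fintype.one_lt_card ho (by norm_num) h1
    · -- `E₆`
      obtain ⟨F, _, _, ⟨e⟩⟩ := h
      exfalso
      obtain ⟨hz, hc⟩ := hce e
      have hcard := Nat.card_congr e.toEquiv
      by_cases ho : 3 ∣ Fintype.card F
      · have h0 := cop_sub (q := Fintype.card F) (k := 1) Fintype.card_pos le_rfl
        rw [pow_one] at h0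
        exact h7 (big_three' ho (show 7 ≤ 36 by norm_num) (Nat.Coprime.coprime_dvd_left (Nat.gcd_dvd_right 3 _) h0)
          (by rw [hcard, T.e6 F _ rfl]; simp only [mul_assoc]; rfl))
      · obtain ⟨r, _, _, hr⟩ := charP_ne ho
        have h1 := H261.pow_dvd_E6 F hr (e z) hz
        rw [hc, Nat.card_eq_fintype_card] at h1
        exact not_dvd_pow Fintype.one_lt_card ho (by norm_num) h1
    · -- `E₇`
      obtain ⟨F, _, _, ⟨e⟩⟩ := h
      exfalso
      obtain ⟨hz, hc⟩ := hce e
      have hcard := Nat.card_congr e.toEquiv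
      by_cases ho : 3 ∣ Fintype.card F
      · have h0 := cop_sub (q := Fintype.card F) (k := 1) Fintype.card_pos le_rfl
        rw [pow_one] at h0
        exact h7 (big_three' ho (show 7 ≤ 63 by norm_num) (Nat.Coprime.coprime_dvd_left (Nat.gcd_dvd_right 2 _) h0)
          (by rw [hcard, T.e7 F _ rfl]; simp only [mul_assoc]; rfl))
      · obtain ⟨r, _, _, hr⟩ := charP_ne ho
        have h1 := H261.pow_dvd_E7 F hr (e z) hz
        rw [hc, Nat.card_eq_fintype_card] at h1
        exact not_dvd_pow Fintype.one_lt_card ho (by norm_num) h1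
    · -- `E₈`
      obtain ⟨F, _, _, ⟨e⟩⟩ := h
      exfalso
      obtain ⟨hz, hc⟩ := hce e
      have hcard := Nat.card_congr e.toEquiv
      by_cases ho : 3 ∣ Fintype.card F
      · exact h7 (big_three ho (show 7 ≤ 120 by norm_num) (by rw [hcard, T.e8 F _ rfl]; simp only [mul_assoc]; rfl))
      · obtain ⟨r, _, _, hr⟩ := charP_ne ho
        have h1 := H261.pow_dvd_E8 F hr (e z) hz
        rw [hc, Nat.card_eq_fintype_card] at h1
        exact not_dvd_pow Fintype.one_lt_card ho (by norm_num) h1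
    · -- `²E₆`
      obtain ⟨F, _, _, q, hq, hF, ⟨e⟩⟩ := h
      exfalso
      obtain ⟨hz, hc⟩ := hce e
      have hcard := Nat.card_congr e.toEquiv
      by_cases ho : 3 ∣ q
      · have h0 := cop_add (q := q) (k := 1) le_rfl
        rw [pow_one] at h0
        exact h7 (big_three' ho (show 7 ≤ 36 by norm_num) (Nat.Coprime.coprime_dvd_left (Nat.gcd_dvd_right 3 _) h0)
          (by rw [hcard, T.te6 F q hq hF]; simp only [mul_assoc]; rfl))
      · obtain ⟨r, _, _, hr⟩ := charP_ne (F := F) (by rw [hF]; exact fun h1 => ho (Nat.prime_three.dvd_of_dvd_pow h1))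
        obtain ⟨n, hn0, hn⟩ := char_pow (F := F) hq (by norm_num) hF (r := r)
        have h1 := H261.Tw.pow_dvd_twE6 F hr hn0 hn hF (e z) hz
        rw [hc] at h1
        exact not_dvd_pow hq.two_le ho (by norm_num) h1
    · -- `³D₄`
      obtain ⟨F, _, _, q, hq, hF, ⟨e⟩⟩ := h
      exfalso
      obtain ⟨hz, hc⟩ := hce e
      have hcard := Nat.card_congr e.toEquiv
      by_cases ho : 3 ∣ q
      · exact h7 (big_three ho (show 7 ≤ 12 by norm_num) (by rw [hcard, T.td4 F q hq hF]; simp only [mul_assoc]; rfl))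
      · obtain ⟨r, _, _, hr⟩ := charP_ne (F := F) (by rw [hF]; exact fun h1 => ho (Nat.prime_three.dvd_of_dvd_pow h1))
        obtain ⟨n, hn0, hn⟩ := char_pow (F := F) hq (by norm_num) hF (r := r)
        have h1 := H261.Tw.pow_dvd_twD4 F hr hn0 hn hF (e z) hz
        rw [hc] at h1
        have h2 : (q ^ 3).Coprime 729 := by
          have : Nat.Coprime q (3 ^ 6) := ((Nat.Prime.coprime_iff_not_dvd Nat.prime_three).2 ho).symm.pow_right 6
          exact this.pow_left 3
        have h3 : q ^ 3 ∣ 8 := h2.dvd_of_dvd_mul_right (show q ^ 3 ∣ 8 * 729 from h1)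
        have h4 := Nat.le_of_dvd (by norm_num) h3
        have h5 : q < 3 := by
          by_contra hlt
          push Not at hlt
          have : 3 ^ 3 ≤ q ^ 3 := Nat.pow_le_pow_left hlt 3
          omega
        have h6 : q = 2 := by have := hq.two_le; omega
        have h8 := hS.P
        rw [hcard, T.td4 F q hq hF, h6] at h8
        revert h8; decide +kernel
    · -- Suzuki
      obtain ⟨F, _, _, m, hm, hF, ⟨e⟩⟩ := h
      exfalso
      have hcard := Nat.card_congr e.toEquiv
      have hd : 3 ∣ Nat.card S := Dvd.dvd.trans (by norm_num) hS.hP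
      rw [hcard, T.sz F m hm hF] at hd
      obtain ⟨k, rfl⟩ : ∃ k, m = k + 1 := ⟨m - 1, by omega⟩
      obtain ⟨h1, -, h2⟩ := odd_pow_mod k
      rw [show 2 * (k + 1) + 1 = 2 * k + 3 by ring] at hd
      generalize 2 ^ (2 * k + 3) = q at hd h1 h2
      rcases (Nat.Prime.dvd_mul Nat.prime_three).1 hd with hd | hd
      · rcases (Nat.Prime.dvd_mul Nat.prime_three).1 hd with hd | hd
        · have := Nat.prime_three.dvd_of_dvd_pow hd
          omega
        · omega
      · have : q ^ 2 % 3 = 1 := by rw [Nat.pow_mod, h2]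
        omega
    · -- Ree
      obtain ⟨F, _, _, m, hm, hF, ⟨e⟩⟩ := h
      exfalso
      apply h7
      rw [Nat.card_congr e.toEquiv, T.ree F m hm hF, ← pow_mul, mul_assoc]
      exact Dvd.dvd.mul_right (pow_dvd_pow 3 (by omega)) _
    · -- `²F₄`
      obtain ⟨F, _, _, m, hm, hF, ⟨e⟩⟩ := h
      exfalso
      apply h7
      have hd : 3 ^ 6 ∣ Nat.card S := Dvd.dvd.trans (by norm_num) hS.hP
      rw [Nat.card_congr e.toEquiv, T.tf4 F m hm hF] at hd ⊢
      obtain ⟨k, rfl⟩ : ∃ k, m = k + 1 := ⟨m - 1, by omega⟩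
      obtain ⟨h1, -, h2⟩ := odd_pow_mod k
      rw [show 2 * (k + 1) + 1 = 2 * k + 3 by ring] at hd ⊢
      generalize 2 ^ (2 * k + 3) = q at hd h1 h2 ⊢
      have e1 : q ^ 12 * (q - 1) * (q ^ 3 + 1) * (q ^ 4 - 1) * (q ^ 6 + 1) =
        q ^ 12 * (q ^ 6 + 1) * (q ^ 4 - 1) * (q ^ 3 + 1) * (q - 1) := by ring
      rw [e1] at hd ⊢
      exact Three13.tf4 h2 hd
    · exact (key .tits (by decide) h).elim
  · exfalso
    rcases h with h | h | h | h | h | h | h | h | h | h | h | h | h | h | h | h | h | h | h | h | h | h | h | h | h | h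
    · exact key .m11 (by decide) h
    · exact key .m12 (by decide) h
    · exact key .m22 (by decide) h
    · exact key .m23 (by decide) h
    · exact key .m24 (by decide) h
    · exact key .j1 (by decide) h
    · exact key .j2 (by decide) h
    · exact key .j3 (by decide) h
    · exact key .j4 (by decide) h
    · exact key .co1 (by decide) h
    · exact key .co2 (by decide) h
    · exact key .co3 (by decide) h
    · exact key .mcl (by decide) h
    · exact key .hs (by decide) h
    · exact key .suz (by decide) h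
    · exact key .he (by decide) h
    · exact key .ru (by decide) h
    · exact key .on (by decide) h
    · exact key .ly (by decide) h
    · exact key .fi22 (by decide) h
    · exact key .fi23 (by decide) h
    · exact key .fi24 (by decide) h
    · exact key .hn (by decide) h
    · exact key .th (by decide) h
    · exact key .b (by decide) h
    · exact key .m (by decide) h

end Cfsg.Agent.H352.Elim
end
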